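import Mathlib.RingTheory.Spectrum.Prime.FreeLocus
import Mathlib.LinearAlgebra.Alternating.Uncurry.Fin
import Mathlib.LinearAlgebra.ExteriorPower.Basic
import Mathlib.LinearAlgebra.Determinant
import Mathlib.RingTheory.Localization.Integer

/-!
# Local bases of projective modules of constant rank and forms in one more variable
-/

set_option autoImplicit false
set_option linter.style.haveILetI false

universe u

namespace Groth.L19.Jacobian

variable {B : Type u} [CommRing B] {P : Type u} [AddCommGroup P] [Module B P]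
  [Module.Projective B P] [Module.Finite B P] {n : ℕ}

/-- Elements forming a basis at a prime, with functionals scaling the coordinates. -/
theorem exists_local_coords (hn : ∀ p : PrimeSpectrum B, Module.rankAtStalk P p = n)
    (p : Ideal B) [p.IsPrime] :
    ∃ (m : Fin n → P) (φ : Fin n → (P →ₗ[B] B)) (s : B),
      s ∉ p ∧ (∀ x, s • x ∈ Submodule.span B (Set.range m)) ∧
      ∀ i j, φ i (m j) = if i = j then s else 0 := by
  classical
  let Bp := Localization.AtPrime p
  let Pp := LocalizedModule p.primeCompl P
  let loc : P →ₗ[B] Pp := LocalizedModule.mkLinearMap p.primeCompl P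
  haveI : Module.Free Bp Pp := by
    have h : (⟨p, ‹_›⟩ : PrimeSpectrum B) ∈ Module.freeLocus B P := by
      rw [Module.freeLocus_eq_univ]; trivial
    exact h
  haveI : Module.Finite Bp Pp := inferInstance
  let b₀ : Module.Basis (Fin n) Bp Pp := Module.finBasisOfFinrankEq Bp Pp (hn ⟨p, ‹_›⟩)
  choose ms hms using fun i => IsLocalizedModule.surj p.primeCompl loc (b₀ i)
  let m : Fin n → P := fun i => (ms i).1
  have hu : ∀ i, IsUnit (algebraMap B Bp ((ms i).2 : B)) := fun i => IsLocalization.map_units Bp (ms i).2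
  let b : Module.Basis (Fin n) Bp Pp := b₀.unitsSMul fun i => (hu i).unit
  have hb : ∀ i, b i = loc (m i) := fun i => by
    rw [Module.Basis.unitsSMul_apply, Units.smul_def, IsUnit.unit_spec, algebraMap_smul]
    exact hms i
  -- spanning
  obtain ⟨N, π, hπ⟩ := Module.Finite.exists_fin' B P
  obtain ⟨σ, hσ⟩ := Module.projective_lifting_property π LinearMap.id hπ
  let g : Fin N → P := fun k => π (Pi.single k 1)
  obtain ⟨t, ht⟩ := IsLocalization.exist_integer_multiples_of_finite p.primeCompl
    (fun x : Fin n × Fin N => b.repr (loc (g x.2)) x.1)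
  choose c hc using ht
  have h1 : ∀ k, loc ((t : B) • g k) = loc (∑ i, c (i, k) • m i) := fun k => by
    rw [map_sum, map_smul]
    conv_lhs => rw [← b.sum_repr (loc (g k))]
    rw [Finset.smul_sum]
    refine Finset.sum_congr rfl fun i _ => ?_
    rw [map_smul, ← hb, ← smul_assoc, ← algebraMap_smul Bp (c (i, k)), hc]
  choose u hu' using fun k => IsLocalizedModule.exists_of_eq (S := p.primeCompl) (h1 k)
  let u₀ : p.primeCompl := ∏ k, u k
  have hu₀ : ∀ k, ((u₀ : B) * t) • g k = ∑ i, ((u₀ : B) * c (i, k)) • m i := fun k => by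
    obtain ⟨v, hv⟩ := Finset.dvd_prod_of_mem u (Finset.mem_univ k)
    have := congrArg (fun z => (v : B) • z) (hu' k)
    simp only [Submonoid.smul_def, Finset.smul_sum, smul_smul] at this
    show ((u₀ : B) * t) • g k = _
    rw [show (u₀ : B) = v * u k by rw [show u₀ = u k * v from hv]; push_cast; ring]
    simpa [mul_assoc] using this
  -- functionals
  let ψ : Fin n → (P →ₗ[B] B) := fun i =>
    { toFun := fun x => ∑ k, σ x k * c (i, k)
      map_add' := fun x y => by simp [add_mul, Finset.sum_add_distrib]
      map_smul' := fun r x => by simp [Finset.mul_sum, mul_assoc] }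
  have hψ : ∀ i x, algebraMap B Bp (ψ i x) = algebraMap B Bp t * b.repr (loc x) i := fun i x => by
    conv_rhs => rw [show x = π (σ x) from (LinearMap.congr_fun hσ x).symm, pi_eq_sum_univ' (σ x)]
    simp only [map_sum, map_smul, ψ, LinearMap.coe_mk, AddHom.coe_mk, map_mul,
      Finsupp.coe_finset_sum, Finset.sum_apply, Finset.mul_sum]
    refine Finset.sum_congr rfl fun k _ => ?_
    rw [hc (i, k), ← algebraMap_smul Bp (σ x k), map_smul, Finsupp.smul_apply, smul_eq_mul,
      Algebra.smul_def]
    simp only [g]
    ring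
  have h2 : ∀ i j, algebraMap B Bp (ψ i (m j)) = algebraMap B Bp (if i = j then (t : B) else 0) := by
    intro i j
    rw [hψ, ← hb, b.repr_self, Finsupp.single_apply]
    by_cases h : i = j <;> simp [h, eq_comm]
  choose w hw using fun i j => IsLocalization.exists_of_eq (M := p.primeCompl) (h2 i j)
  let w₀ : p.primeCompl := ∏ x : Fin n × Fin n, w x.1 x.2
  refine ⟨m, fun i => ((u₀ : B) * w₀) • ψ i, u₀ * w₀ * t, (u₀ * w₀ * t).2, fun x => ?_, fun i j => ?_⟩
  · rw [show x = π (σ x) from (LinearMap.congr_fun hσ x).symm, pi_eq_sum_univ' (σ x), map_sum,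
      Finset.smul_sum]
    refine Submodule.sum_mem _ fun k _ => ?_
    rw [map_smul, smul_comm]
    refine Submodule.smul_mem _ _ ?_
    rw [show (u₀ : B) * w₀ * t = w₀ * (u₀ * t) by ring, mul_smul, hu₀]
    exact Submodule.smul_mem _ _ (Submodule.sum_mem _ fun i _ =>
      Submodule.smul_mem _ _ (Submodule.subset_span ⟨i, rfl⟩))
  · obtain ⟨v, hv⟩ := Finset.dvd_prod_of_mem (fun x : Fin n × Fin n => w x.1 x.2) (Finset.mem_univ (i, j))
    rw [LinearMap.smul_apply, smul_eq_mul, show (w₀ : B) = (w i j : B) * v by
      rw [show w₀ = w i j * v from hv]; rfl]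
    calc (u₀ : B) * ((w i j : B) * v) * ψ i (m j)
        = (u₀ : B) * v * ((w i j : B) * ψ i (m j)) := by ring
      _ = _ := by rw [hw i j]; split_ifs <;> ring

/-- An alternating form in more variables than the rank vanishes. -/
theorem alternating_eq_zero (hn : ∀ p : PrimeSpectrum B, Module.rankAtStalk P p = n)
    {N : Type u} [AddCommGroup N] [Module B N] (β : P [⋀^Fin (n + 1)]→ₗ[B] N)
    (v : Fin (n + 1) → P) : β v = 0 := by
  classical
  let J : Ideal B := (⊥ : Submodule B N).colon {β v}
  suffices J = ⊤ by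
    have h1 : (1 : B) ∈ J := by rw [this]; trivial
    simpa [J, Submodule.mem_colon_singleton] using h1
  by_contra hJ
  obtain ⟨p, hp, hJp⟩ := Ideal.exists_le_maximal J hJ
  obtain ⟨m, φ, s, hs, hspan, -⟩ := exists_local_coords (n := n) hn p
  choose a ha using fun k => (Submodule.mem_span_range_iff_exists_fun B).mp (hspan (v k))
  have hz : (s ^ (n + 1)) • β v = 0 := by
    have h1 : β (fun k => s • v k) = s ^ (n + 1) • β v := by
      have := β.toMultilinearMap.map_smul_univ (fun _ => s) v
      simpa using this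
    rw [← h1, funext fun k => (ha k).symm]
    show β.toMultilinearMap (fun k => ∑ i, a k i • m i) = 0
    rw [MultilinearMap.map_sum]
    refine Finset.sum_eq_zero fun r _ => ?_
    rw [MultilinearMap.map_smul_univ]
    obtain ⟨k, l, hkl, he⟩ := Fintype.exists_ne_map_eq_of_card_lt r (by simp)
    rw [show β.toMultilinearMap (fun k => m (r k)) = 0 from
      β.map_eq_zero_of_eq _ (congrArg m he) hkl, smul_zero]
  exact hs (hp.isPrime.mem_of_pow_mem (n + 1) (hJp (Submodule.mem_colon_singleton.mpr hz)))

end Groth.L19.Jacobian
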